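import Groth.Agent.EtaleBase.Rigidity
import Mathlib.AlgebraicGeometry.Morphisms.Finite

/-!
# Clopen agreement loci for maps to separated unramified schemes
-/

set_option autoImplicit false

universe u

open CategoryTheory CategoryTheory.Limits AlgebraicGeometry

namespace Groth.Pi1Etale

open Groth.EtaleBase

variable {X S Y : Scheme.{u}} (π : X ⟶ S) (f g : Y ⟶ X) (w : f ≫ π = g ≫ π)

/-- The inclusion of the agreement locus. -/
noncomputable abbrev agreeι : agree π f g w ⟶ Y :=
  pullback.fst (pullback.lift f g w) (pullback.diagonal π)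

theorem range_subset_range_agreeι {T : Scheme.{u}} (e : T ⟶ Y) (he : e ≫ f = e ≫ g) :
    Set.range e.base ⊆ Set.range (agreeι π f g w).base := by
  let l : T ⟶ agree π f g w := pullback.lift e (e ≫ f) (by
    apply pullback.hom_ext <;> simp [he, pullback.lift_fst, pullback.lift_snd])
  rintro _ ⟨t, rfl⟩
  exact ⟨l.base t, by rw [← Scheme.Hom.comp_apply]; simp [l, agreeι, pullback.lift_fst]⟩

variable [FormallyUnramified π] [LocallyOfFiniteType π]

include w in
theorem eq_of_agreeι_surjective (h : Surjective (agreeι π f g w)) : f = g :=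
  eq_of_surjective_agree π f g w _ (agree_fst_comp π f g w)

theorem isClopen_range_agreeι [IsSeparated π] : IsClopen (Set.range (agreeι π f g w).base) :=
  ⟨(Scheme.Hom.isClosedEmbedding _).isClosed_range, (Scheme.Hom.isOpenEmbedding _).isOpen_range⟩

include w in
/-- If the only clopen subset of `Y` containing the image of `e` is `Y`, maps agreeing on `e` agree. -/
theorem eq_of_comp_eq_of_clopen [IsSeparated π] {T : Scheme.{u}} (e : T ⟶ Y) (he : e ≫ f = e ≫ g)
    (h : ∀ C : Set Y, IsClopen C → Set.range e.base ⊆ C → C = Set.univ) : f = g :=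
  eq_of_agreeι_surjective π f g w ⟨Set.range_eq_univ.1
    (h _ (isClopen_range_agreeι π f g w) (range_subset_range_agreeι π f g w e he))⟩

include w in
theorem eq_of_comp_eq_of_connected [IsSeparated π] [ConnectedSpace Y] {T : Scheme.{u}} [Nonempty T]
    (e : T ⟶ Y) (he : e ≫ f = e ≫ g) : f = g :=
  eq_of_comp_eq_of_clopen π f g w e he fun _ hC hsub =>
    hC.eq_univ ((Set.range_nonempty _).mono hsub)

include w in
theorem eq_of_comp_eq_of_denseRange [IsSeparated π] {T : Scheme.{u}}
    (e : T ⟶ Y) (he : e ≫ f = e ≫ g) (hd : DenseRange e.base) : f = g :=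
  eq_of_comp_eq_of_clopen π f g w e he fun C hC hsub =>
    Set.univ_subset_iff.1 (hd.closure_range.symm.subset.trans (hC.1.closure_subset_iff.2 hsub))

/-- A universally injective surjective étale morphism is an isomorphism. -/
theorem isIso_of_etale_universallyInjective_surjective {Z W : Scheme.{u}} (h : Z ⟶ W) [Etale h]
    [UniversallyInjective h] [Surjective h] : IsIso h := by
  have : IsIso (pullback.diagonal h) := (isIso_iff_isOpenImmersion_and_surjective _).2
    ⟨inferInstance, (UniversallyInjective.iff_diagonal h).1 inferInstance⟩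
  have : Mono h := (pullback.isIso_diagonal_iff h).1 inferInstance
  have : IsOpenImmersion h := IsOpenImmersion.of_flat_of_mono h
  exact (isIso_iff_isOpenImmersion_and_surjective h).2 ⟨inferInstance, inferInstance⟩

/-- The preimage of a dense image under an open map is dense. -/
theorem denseRange_pullback_fst {A B C : Scheme.{u}} (p : A ⟶ C) (q : B ⟶ C)
    (hp : IsOpenMap p.base) (hq : DenseRange q.base) : DenseRange (pullback.fst p q).base := by
  refine dense_iff_inter_open.2 fun U hU hne => ?_
  obtain ⟨_, ⟨a, ha, rfl⟩, b, hb⟩ := dense_iff_inter_open.1 hq (p.base '' U) (hp U hU) (hne.image _)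
  obtain ⟨z, hz1, -⟩ := Scheme.Pullback.exists_preimage_pullback (f := p) (g := q) a b hb.symm
  exact ⟨a, ha, z, hz1⟩

end Groth.Pi1Etale
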