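import Groth.Agent.Pi1Etale.EqLocus
import Groth.Prelude.Def_FEt

/-!
# Faithfulness criteria for restriction of finite étale covers
-/

set_option autoImplicit false

universe u

open CategoryTheory CategoryTheory.Limits AlgebraicGeometry

namespace Groth.Pi1Etale

variable {X Y : Scheme.{u}}

theorem fst_comp_eq_of_restrict_map_eq (f : X ⟶ Y) {A B : FEt.Cat Y} {a b : A ⟶ B}
    (h : (FEt.restrict f).map a = (FEt.restrict f).map b) :
    pullback.fst A.hom f ≫ a.left = pullback.fst A.hom f ≫ b.left := by
  have h1 : pullback.lift (pullback.fst A.hom f ≫ a.left) (pullback.snd A.hom f) _ =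
      pullback.lift (pullback.fst A.hom f ≫ b.left) (pullback.snd A.hom f) _ :=
    congrArg (fun φ => φ.left) h
  exact ((pullback.lift_fst _ _ _).symm.trans (congrArg (· ≫ pullback.fst B.hom f) h1)).trans
    (pullback.lift_fst _ _ _)

/-- Restriction is faithful as soon as the preimage in every cover generates under clopens. -/
theorem restrict_faithful_of_clopen (f : X ⟶ Y)
    (h : ∀ (A : FEt.Cat Y) (C : Set ↥A.left), IsClopen C →
      Set.range (pullback.fst A.hom f).base ⊆ C → C = Set.univ) :
    (FEt.restrict f).Faithful where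
  map_injective {A B a b} hab := by
    have : IsFinite B.hom := B.prop.1
    have : Etale B.hom := B.prop.2
    refine MorphismProperty.Over.Hom.ext ?_
    refine eq_of_comp_eq_of_clopen B.hom a.left b.left
      ((MorphismProperty.Over.w a).trans (MorphismProperty.Over.w b).symm) _
      (fst_comp_eq_of_restrict_map_eq f hab) (h A)

theorem restrict_faithful_of_denseRange (f : X ⟶ Y) (hd : DenseRange f.base) :
    (FEt.restrict f).Faithful :=
  restrict_faithful_of_clopen f fun A C hC hsub => by
    have : Etale A.hom := A.prop.2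
    have hd' := denseRange_pullback_fst A.hom f A.hom.isOpenMap hd
    exact Set.univ_subset_iff.1 (hd'.closure_range.symm.subset.trans (hC.1.closure_subset_iff.2 hsub))

theorem restrict_faithful_of_meets_components (f : X ⟶ Y)
    (h : ∀ y : Y, (connectedComponent y ∩ Set.range f.base).Nonempty) :
    (FEt.restrict f).Faithful :=
  restrict_faithful_of_clopen f fun A C hC hsub => by
    have : Etale A.hom := A.prop.2
    have : IsFinite A.hom := A.prop.1
    by_contra hne
    obtain ⟨a, ha⟩ := (Set.ne_univ_iff_exists_notMem _).1 hne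
    have hclopen : IsClopen (A.hom.base '' Cᶜ) :=
      ⟨A.hom.isClosedMap _ hC.compl.1, A.hom.isOpenMap _ hC.compl.2⟩
    obtain ⟨y, hy1, x, hxy⟩ := h (A.hom.base a)
    obtain ⟨a', ha', hya'⟩ :=
      hclopen.connectedComponent_subset ⟨a, ha, rfl⟩ hy1
    obtain ⟨z, hz1, -⟩ := Scheme.Pullback.exists_preimage_pullback (f := A.hom) (g := f) a' x
      (hya'.trans hxy.symm)
    exact ha' (hsub ⟨z, hz1⟩)

end Groth.Pi1Etale
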