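import Mathlib.AlgebraicGeometry.Morphisms.Etale
import Mathlib.AlgebraicGeometry.Morphisms.Finite
import Mathlib.RingTheory.Unramified.Field
import Mathlib.RingTheory.Flat.EquationalCriterion
import Mathlib.RingTheory.LocalRing.ResidueField.Ideal
import Mathlib.RingTheory.TensorProduct.Finite
import Mathlib.RingTheory.Finiteness.ModuleFinitePresentation

/-!
# Reducedness ascends along finite étale morphisms
-/

universe u

open AlgebraicGeometry CategoryTheory TensorProduct

namespace Groth.Pi1Etale

/-- A finite étale algebra over a reduced ring is reduced. -/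
theorem isReduced_of_finite_etale (R S : Type u) [CommRing R] [CommRing S] [Algebra R S]
    [Module.Finite R S] [Algebra.Etale R S] [_root_.IsReduced R] : _root_.IsReduced S := by
  have : Module.FinitePresentation R S :=
    Module.FinitePresentation.of_finite_of_finitePresentation R S
  have : Module.Projective R S := Module.Flat.projective_of_finitePresentation
  obtain ⟨s, hs⟩ := Module.projective_def.mp (inferInstance : Module.Projective R S)
  refine ⟨fun x hx => hs.injective ?_⟩
  rw [map_zero]
  ext i
  rw [Finsupp.coe_zero, Pi.zero_apply]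
  let φ : S →ₗ[R] R := (Finsupp.lapply i).comp s
  change φ x = 0
  refine IsNilpotent.eq_zero ?_
  rw [nilpotent_iff_mem_prime]
  intro p hp
  have : _root_.IsReduced (p.ResidueField ⊗[R] S) :=
    Algebra.FormallyUnramified.isReduced_of_field p.ResidueField _
  have h0 : (1 : p.ResidueField) ⊗ₜ[R] x = 0 :=
    (hx.map (Algebra.TensorProduct.includeRight : S →ₐ[R] p.ResidueField ⊗[R] S)).eq_zero
  have h1 := congrArg (φ.baseChange p.ResidueField) h0
  rw [LinearMap.baseChange_tmul, map_zero] at h1
  have h2 := congrArg (TensorProduct.rid R p.ResidueField) h1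
  rw [TensorProduct.rid_tmul, map_zero, Algebra.smul_def, mul_one] at h2
  rwa [← RingHom.mem_ker, Ideal.ker_algebraMap_residueField] at h2

/-- A scheme with a finite étale morphism to a reduced scheme is reduced. -/
theorem isReduced_of_isFinite_etale {X S : Scheme.{u}} (φ : X ⟶ S) [IsFinite φ] [Etale φ]
    [IsReduced S] : IsReduced X := by
  have (x : X) : _root_.IsReduced (X.presheaf.stalk x) := by
    obtain ⟨U, hU, hxU, -⟩ := AlgebraicGeometry.exists_isAffineOpen_mem_and_subset
      (U := ⊤) (TopologicalSpace.Opens.mem_top (φ x))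
    have hV : IsAffineOpen (φ ⁻¹ᵁ U) := hU.preimage φ
    have hfin : (φ.app U).hom.Finite := φ.finite_app U hU
    have het : (φ.app U).hom.Etale := by
      rw [Scheme.Hom.app_eq_appLE]
      exact φ.etale_appLE hU hV le_rfl
    algebraize [(φ.app U).hom]
    have : _root_.IsReduced Γ(X, φ ⁻¹ᵁ U) :=
      isReduced_of_finite_etale Γ(S, U) Γ(X, φ ⁻¹ᵁ U)
    have : IsReduced (φ ⁻¹ᵁ U).toScheme := isReduced_of_isOpenImmersion hV.isoSpec.hom
    exact isReduced_of_injective ((φ ⁻¹ᵁ U).stalkIso ⟨x, hxU⟩).inv.hom
      ((φ ⁻¹ᵁ U).stalkIso ⟨x, hxU⟩).symm.commRingCatIsoToRingEquiv.injective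
  exact isReduced_of_isReduced_stalk X

end Groth.Pi1Etale
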