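import Mathlib.Algebra.Polynomial.Div
import Mathlib.Algebra.Polynomial.AlgebraMap

/-!
# `A[X]` is free over `A[f]` on `1, X, …, X^(d-1)` for `f = -g`, `g` monic of degree `d`
-/

open Polynomial

namespace Groth.Pi1Etale

variable {A : Type*} [CommRing A] {g : A[X]} {d : ℕ}

theorem exists_repr (hg : g.Monic) (hd : g.natDegree = d) (hpos : 0 < d) (q : A[X]) :
    ∃ c : Fin d → A[X], q = ∑ i : Fin d, aeval (-g) (c i) * X ^ (i : ℕ) := by
  induction h : q.natDegree using Nat.strong_induction_on generalizing q with
  | _ n ih =>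
    subst h
    by_cases hq : q.natDegree < d
    · refine ⟨fun i => C (q.coeff i), ?_⟩
      conv_lhs => rw [q.as_sum_range' d hq]
      rw [Finset.sum_fin_eq_sum_range]
      refine Finset.sum_congr rfl fun i hi => ?_
      rw [dif_pos (Finset.mem_range.mp hi), aeval_C, ← C_mul_X_pow_eq_monomial]
      rfl
    · have hlt : (q /ₘ g).natDegree < q.natDegree := by
        rw [natDegree_divByMonic q hg]; omega
      obtain ⟨c, hc⟩ := ih _ hlt _ rfl
      have hr : (q %ₘ g).natDegree < d := hd ▸ natDegree_modByMonic_lt q hg (fun h => by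
        rw [h, natDegree_one] at hd; omega)
      refine ⟨fun i => C ((q %ₘ g).coeff i) - X * c i, ?_⟩
      conv_lhs => rw [← modByMonic_add_div q g]
      conv_lhs => rw [(q %ₘ g).as_sum_range' d hr, hc]
      rw [Finset.sum_fin_eq_sum_range (fun i : Fin d => aeval (-g) (C ((q %ₘ g).coeff i) - X * c i) * X ^ (i : ℕ)),
        Finset.sum_fin_eq_sum_range (fun i : Fin d => aeval (-g) (c i) * X ^ (i : ℕ)),
        Finset.mul_sum, ← Finset.sum_add_distrib]
      refine Finset.sum_congr rfl fun i hi => ?_
      simp only [dif_pos (Finset.mem_range.mp hi), map_sub, map_mul, aeval_C, aeval_X,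
        ← C_mul_X_pow_eq_monomial, Polynomial.algebraMap_eq]
      ring

theorem eq_zero_of_repr_eq_zero (hg : g.Monic) (hd : g.natDegree = d) :
    ∀ (N : ℕ) (c : Fin d → A[X]), (∀ i, (c i).degree < N) →
      (∑ i : Fin d, aeval (-g) (c i) * X ^ (i : ℕ) = 0) → c = 0 := by
  intro N
  induction N with
  | zero =>
    intro c hc _
    funext i
    exact degree_eq_bot.mp (Nat.WithBot.lt_zero_iff.mp (by exact_mod_cast hc i))
  | succ N ih =>
    intro c hc hsum
    rcases subsingleton_or_nontrivial A with h | h
    · exact funext fun i => Subsingleton.elim _ _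
    have hsplit : ∀ i, c i = X * (c i).divX + C ((c i).coeff 0) := fun i => (X_mul_divX_add _).symm
    set r : A[X] := ∑ i : Fin d, C ((c i).coeff 0) * X ^ (i : ℕ) with hr
    set s : A[X] := ∑ i : Fin d, aeval (-g) (c i).divX * X ^ (i : ℕ) with hs
    have h1 : r = g * s := by
      have h2 : (-g) * s + r = 0 := by
        rw [hr, hs, Finset.mul_sum, ← Finset.sum_add_distrib, ← hsum]
        refine Finset.sum_congr rfl fun i _ => ?_
        conv_rhs => rw [hsplit i]
        simp only [map_add, map_mul, aeval_X, aeval_C, Polynomial.algebraMap_eq]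
        ring
      rw [neg_mul, neg_add_eq_zero] at h2
      exact h2.symm
    have hrdeg : r.degree < g.degree := by
      rw [degree_eq_natDegree hg.ne_zero, hd]
      exact degree_sum_fin_lt (fun i => (c i).coeff 0)
    have hs0 : s = 0 := by
      by_contra hne
      rw [h1, mul_comm, Monic.degree_mul hg] at hrdeg
      exact absurd hrdeg (not_lt.mpr (le_add_of_nonneg_left (zero_le_degree_iff.mpr hne)))
    have hr0 : r = 0 := by rw [h1, hs0, mul_zero]
    have hc' := ih (fun i => (c i).divX) (fun i => by
      by_cases h : c i = 0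
      · simp [h]
      · have h1 := degree_divX_lt h
        have h2 : (c i).degree ≤ (N : WithBot ℕ) := by
          rw [← natDegree_le_iff_degree_le]
          have h3 := (natDegree_lt_iff_degree_lt h).mpr (hc i)
          omega
        exact lt_of_lt_of_le h1 h2) hs0
    funext i
    rw [hsplit i, show (c i).divX = 0 from congrFun hc' i]
    have := congrArg (fun p : A[X] => p.coeff (i : ℕ)) hr0
    simp only [r, finsetSum_coeff, coeff_C_mul, coeff_X_pow, coeff_zero, mul_ite, mul_one, mul_zero] at this
    rw [Finset.sum_eq_single i (fun j _ hj => if_neg fun h => hj (Fin.ext h.symm)) (by simp), if_pos rfl] at this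
    simp [this]

end Groth.Pi1Etale
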